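import Groth.Agent.S0086
import Groth.Agent.Flat2D.ConnSpread
import Groth.Agent.Etcore.DimBaseChange
import Groth.Prelude.Def_AgPol
import Mathlib.AlgebraicGeometry.Morphisms.LocalFlatDescent

/-!
# Descent of "abelian scheme of relative dimension `g`" along faithfully flat quasi-compact morphisms
-/

set_option autoImplicit false
universe u
open CategoryTheory CategoryTheory.Limits AlgebraicGeometry Opposite

namespace K345.EllDesc

theorem fibreDim_of_isPullback {X Y S T : Scheme.{u}} {p : Y ⟶ X} {y : Y ⟶ S} {x : X ⟶ T} {f : S ⟶ T}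
    [LocallyOfFiniteType x] (h : IsPullback p y x f) (s : S) :
    topologicalKrullDim ↥(y.fiber s) = topologicalKrullDim ↥(x.fiber (f s)) := by
  have h1 : IsPullback (y.fiberι s ≫ p) (y.fiberToSpecResidueField s) x
      (S.fromSpecResidueField s ≫ f) := (IsPullback.of_hasPullback _ _).paste_horiz h
  have h2 : IsPullback (x.fiberι (f s)) (x.fiberToSpecResidueField (f s)) x
      (T.fromSpecResidueField (f s)) := IsPullback.of_hasPullback _ _
  have e1 : S.fromSpecResidueField s ≫ f = Spec.map (f.residueFieldMap s) ≫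
      T.fromSpecResidueField (f s) := (Scheme.Hom.SpecMap_residueFieldMap_fromSpecResidueField f s).symm
  rw [e1] at h1
  obtain ⟨l, hl1, hl2⟩ : ∃ l : y.fiber s ⟶ x.fiber (f s), l ≫ x.fiberι (f s) = y.fiberι s ≫ p ∧
      l ≫ x.fiberToSpecResidueField (f s) = y.fiberToSpecResidueField s ≫
        Spec.map (f.residueFieldMap s) :=
    ⟨h2.lift _ _ (by rw [h1.w, Category.assoc]), h2.lift_fst _ _ _, h2.lift_snd _ _ _⟩
  rw [← hl1] at h1
  have h3 := IsPullback.of_right h1 hl2 h2
  have h4 : LocallyOfFiniteType (x.fiberToSpecResidueField (f s)) :=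
    MorphismProperty.of_isPullback (P := @LocallyOfFiniteType) h2 inferInstance
  exact Groth.Agent.Etcore.DimBaseChange.topologicalKrullDim_eq
    (Field.toIsField (T.residueField (f s))) (Field.toIsField (S.residueField s)) _ _ l _ h3

theorem isAbSch_of_isPullback {S T : Scheme.{u}} {E : Over T} {J : Over S} {p : J.left ⟶ E.left}
    {f : S ⟶ T} [Flat f] [Surjective f] [QuasiCompact f] (h : IsPullback p J.hom E.hom f) {g : ℕ}
    (hJ : AgPol.IsAbSch J g) : AgPol.IsAbSch E g := by
  have hQ : (@Surjective ⊓ @Flat ⊓ @QuasiCompact : MorphismProperty Scheme.{u}) f :=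
    ⟨⟨inferInstance, inferInstance⟩, inferInstance⟩
  have h1 := hJ.smooth
  have h2 := hJ.proper
  have h3 := hJ.geomConnected
  have hs : Smooth E.hom := MorphismProperty.of_isPullback_of_descendsAlong (P := @Smooth) h.flip hQ h1
  have hD : MorphismProperty.DescendsAlong @IsProper
    (@Surjective ⊓ @Flat ⊓ @QuasiCompact : MorphismProperty Scheme.{u}) := Groth.Agent.S0086.result
  have hp : IsProper E.hom := MorphismProperty.of_isPullback_of_descendsAlong (P := @IsProper) h.flip hQ h2
  refine ⟨hs, hp, Groth.Agent.Flat2D.ConnSpread.geometricallyConnected_of_isPullback h, fun t => ?_⟩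
  obtain ⟨s, rfl⟩ := f.surjective t
  rw [← fibreDim_of_isPullback h s]
  exact hJ.fibreDim s

/-- the form with an isomorphism to the base change -/
theorem isAbSch_of_iso {S T : Scheme.{u}} (E : Over T) (J : Over S) (f : S ⟶ T) [Flat f] [Surjective f]
    [QuasiCompact f] (e : J.left ≅ pullback E.hom f) (he : e.hom ≫ pullback.snd E.hom f = J.hom) {g : ℕ}
    (hJ : AgPol.IsAbSch J g) : AgPol.IsAbSch E g := by
  refine isAbSch_of_isPullback (p := e.hom ≫ pullback.fst E.hom f) (f := f) ?_ hJ
  refine IsPullback.of_iso (IsPullback.of_hasPullback E.hom f) e.symm (Iso.refl _) (Iso.refl _)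
    (Iso.refl _) ?_ ?_ ?_ ?_
  · simp
  · simp [← he]
  · simp
  · simp

/-- a morphism from a nonempty scheme to the spectrum of an Artinian local ring is surjective -/
theorem surjective_of_artinian {Λ : Type u} [CommRing Λ] [IsArtinianRing Λ] [IsLocalRing Λ]
    {S : Scheme.{u}} [Nonempty S] (f : S ⟶ Spec (CommRingCat.of Λ)) : Surjective f := by
  refine ⟨fun t => ?_⟩
  obtain ⟨s⟩ := (inferInstance : Nonempty S)
  have h : ∀ x : PrimeSpectrum Λ, x = IsLocalRing.closedPoint Λ := fun x => by
    apply PrimeSpectrum.ext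
    have hm : x.asIdeal.IsMaximal := inferInstance
    exact IsLocalRing.eq_maximalIdeal hm
  exact ⟨s, (h _).trans (h t).symm⟩

/-- endgame for S14288: the base change to `S₀` is nonempty, so `f` is surjective -/
theorem isAbSch_artinian {Λ : Type u} [CommRing Λ] [IsArtinianRing Λ] [IsLocalRing Λ]
    {S S₀ : Scheme.{u}} (f : S ⟶ Spec (CommRingCat.of Λ)) [QuasiCompact f] [Flat f] (i : S₀ ⟶ S)
    [IsIntegral S₀] (E : Over (Spec (CommRingCat.of Λ))) (J : Over S) (e : J.left ≅ pullback E.hom f)
    (he : e.hom ≫ pullback.snd E.hom f = J.hom) {g : ℕ} (hJ : AgPol.IsAbSch J g) :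
    AgPol.IsAbSch E g := by
  have : Nonempty S := ⟨i (genericPoint S₀)⟩
  have : Surjective f := surjective_of_artinian f
  exact isAbSch_of_iso E J f e he hJ

end K345.EllDesc
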